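import Cfsg.Agent.Alt.ThreeCycle

set_option autoImplicit false
set_option linter.unusedSectionVars false

/-!
`Aut(A_n) = S_n` and `Aut(S_n) = S_n` for `n ≠ 6`, and subgroups of index `n` of `S_n`, `A_n`.
-/

namespace Cfsg.Agent.Alt

open Equiv Equiv.Perm

variable {α : Type*} [Fintype α] [DecidableEq α]

/-- The image of a pencil of three-cycles under an automorphism is a pencil of three-cycles. -/
theorem exists_common_edge (h4 : 4 ≤ Nat.card α) (φ : MulAut (alternatingGroup α))
    (h3c : ∀ c : alternatingGroup α, IsThreeCycle (c : Perm α) →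
      IsThreeCycle ((φ c : alternatingGroup α) : Perm α))
    {a b : α} (hab : a ≠ b) :
    ∃ u v : α, u ≠ v ∧ ∀ x (hxa : x ≠ a) (hxb : x ≠ b),
      ((φ ⟨cyc3 a b x, cyc3_mem hab hxa.symm hxb.symm⟩ : alternatingGroup α) : Perm α) u = v := by
  set T : (x : α) → x ≠ a → x ≠ b → Perm α := fun x hxa hxb =>
    ((φ ⟨cyc3 a b x, cyc3_mem hab hxa.symm hxb.symm⟩ : alternatingGroup α) : Perm α) with hT
  have hT3 : ∀ x hxa hxb, IsThreeCycle (T x hxa hxb) := fun x hxa hxb =>
    h3c _ (isThreeCycle_cyc3 hab hxa.symm hxb.symm)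
  have hinv : ∀ x y, x ≠ a → x ≠ b → y ≠ a → y ≠ b → x ≠ y →
      cyc3 a b x * cyc3 a b y * (cyc3 a b x * cyc3 a b y) = 1 := by
    intro x y hxa hxb hya hyb hxy
    ext z
    simp only [Perm.mul_apply, Perm.one_apply]
    by_cases ha : z = a
    · subst ha
      rw [cyc3_apply_left hab hya.symm, cyc3_apply_mid hxa.symm hxb.symm,
        cyc3_apply_other hxa hxb hxy, cyc3_apply_right]
    by_cases hb : z = b
    · subst hb
      rw [cyc3_apply_mid hya.symm hyb.symm, cyc3_apply_other hya hyb hxy.symm, cyc3_apply_right,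
        cyc3_apply_left hab hxa.symm]
    by_cases hx : z = x
    · subst hx
      rw [cyc3_apply_other ha hb hxy, cyc3_apply_right, cyc3_apply_left hab hya.symm,
        cyc3_apply_mid hxa.symm hxb.symm]
    by_cases hy : z = y
    · subst hy
      rw [cyc3_apply_right, cyc3_apply_left hab hxa.symm, cyc3_apply_mid hya.symm hyb.symm,
        cyc3_apply_other hya hyb hxy.symm]
    rw [cyc3_apply_other ha hb hy, cyc3_apply_other ha hb hx, cyc3_apply_other ha hb hy,
      cyc3_apply_other ha hb hx]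
  have hTT : ∀ x y hxa hxb hya hyb, x ≠ y →
      T x hxa hxb * T y hya hyb * (T x hxa hxb * T y hya hyb) = 1 := by
    intro x y hxa hxb hya hyb hxy
    simp only [hT, ← Subgroup.coe_mul, ← map_mul]
    rw [show ((⟨cyc3 a b x, cyc3_mem hab hxa.symm hxb.symm⟩ : alternatingGroup α) *
        ⟨cyc3 a b y, cyc3_mem hab hya.symm hyb.symm⟩ *
        (⟨cyc3 a b x, cyc3_mem hab hxa.symm hxb.symm⟩ *
        ⟨cyc3 a b y, cyc3_mem hab hya.symm hyb.symm⟩)) = 1 from
      Subtype.ext (hinv x y hxa hxb hya hyb hxy)]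
    simp
  have hne : ∀ x y hxa hxb hya hyb, x ≠ y →
      T x hxa hxb ≠ T y hya hyb ∧ T x hxa hxb ≠ (T y hya hyb)⁻¹ := by
    intro x y hxa hxb hya hyb hxy
    refine ⟨fun h => ?_, fun h => ?_⟩
    · have := congrArg (fun g : alternatingGroup α => (g : Perm α) b)
        (φ.injective (Subtype.ext h))
      simp only [cyc3_apply_mid hxa.symm hxb.symm, cyc3_apply_mid hya.symm hyb.symm] at this
      exact hxy this
    · have h' : (⟨cyc3 a b x, cyc3_mem hab hxa.symm hxb.symm⟩ : alternatingGroup α) =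
          (⟨cyc3 a b y, cyc3_mem hab hya.symm hyb.symm⟩)⁻¹ := by
        apply φ.injective
        rw [map_inv]
        exact Subtype.ext h
      have := congrArg (fun g : alternatingGroup α => (g : Perm α) a) h'
      simp only [InvMemClass.coe_inv, cyc3_apply_left hab hxa.symm] at this
      rw [eq_comm, Perm.inv_eq_iff_eq, cyc3_apply_mid hya.symm hyb.symm] at this
      exact hya this.symm
  obtain ⟨c, d, hcd, hca, hcb, hda, hdb⟩ := exists_two_others h4 a b
  set A := T c hca hcb with hA
  obtain ⟨u, hu⟩ := shared_edge (hT3 c hca hcb) (hT3 d hda hdb) (hne c d hca hcb hda hdb hcd).1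
    (hne c d hca hcb hda hdb hcd).2 (hTT c d hca hcb hda hdb hcd)
  refine ⟨u, A u, hu.1.symm, fun x hxa hxb => ?_⟩
  change T x hxa hxb u = A u
  by_cases hxc : x = c
  · subst hxc; rfl
  by_cases hxd : x = d
  · subst hxd; exact hu.2.1.symm
  obtain ⟨u', hu'⟩ := shared_edge (hT3 c hca hcb) (hT3 x hxa hxb)
    (hne c x hca hcb hxa hxb (Ne.symm hxc)).1 (hne c x hca hcb hxa hxb (Ne.symm hxc)).2
    (hTT c x hca hcb hxa hxb (Ne.symm hxc))
  obtain ⟨g1, g2, g3⟩ := threeCycle_distinct (hT3 c hca hcb) hu.1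
  have hmem : u' ∈ (T c hca hcb).support := mem_support.2 hu'.1
  rw [((hT3 c hca hcb).support_eq_iff_mem_support).2 (mem_support.2 hu.1)] at hmem
  simp only [Finset.mem_insert, Finset.mem_singleton] at hmem
  rcases hmem with h | h | h
  · rw [← h]; exact hu'.2.1.symm
  · exact (edge_unique (hT3 c hca hcb) (hT3 d hda hdb) (hT3 x hxa hxb) hu hu'
      (hTT d x hda hdb hxa hxb (Ne.symm hxd)) h).elim
  · have hback : u = T c hca hcb u' := by
      rw [h, threeCycle_apply_three (hT3 c hca hcb)]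
    exact (edge_unique (hT3 c hca hcb) (hT3 x hxa hxb) (hT3 d hda hdb) hu' hu
      (hTT x d hxa hxb hda hdb hxd) hback).elim

/-- For `n ≥ 4`, `n ≠ 6`, conjugation gives every automorphism of the alternating group. -/
theorem exists_conjNormal_eq (h4 : 4 ≤ Nat.card α) (h6 : Nat.card α ≠ 6)
    (φ : MulAut (alternatingGroup α)) : ∃ σ : Perm α, MulAut.conjNormal σ = φ := by
  have h3c : ∀ c : alternatingGroup α, IsThreeCycle (c : Perm α) →
      IsThreeCycle ((φ c : alternatingGroup α) : Perm α) := fun c hc => isThreeCycle_map h6 φ hc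
  have : Nonempty α := by
    rcases isEmpty_or_nonempty α with h | h
    · simp at h4
    · exact h
  obtain ⟨a⟩ := this
  obtain ⟨b, -, -, hba, -, -, -⟩ := exists_two_others h4 a a
  have hab : a ≠ b := hba.symm
  obtain ⟨u, v, huv, hedge⟩ := exists_common_edge h4 φ h3c hab
  set f : α → α := fun x => if hxa : x = a then u else if hxb : x = b then v else
    ((φ ⟨cyc3 a b x, cyc3_mem hab (Ne.symm hxa) (Ne.symm hxb)⟩ : alternatingGroup α) : Perm α) v
    with hf
  have hfa : f a = u := by simp [hf]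
  have hfb : f b = v := by simp [hf, hab.symm]
  have hform : ∀ x (hxa : x ≠ a) (hxb : x ≠ b),
      ((φ ⟨cyc3 a b x, cyc3_mem hab hxa.symm hxb.symm⟩ : alternatingGroup α) : Perm α) =
        cyc3 u v (f x) ∧ f x ≠ u ∧ f x ≠ v := by
    intro x hxa hxb
    have h3 := h3c ⟨cyc3 a b x, cyc3_mem hab hxa.symm hxb.symm⟩
      (isThreeCycle_cyc3 hab hxa.symm hxb.symm)
    have he := hedge x hxa hxb
    have hne : ((φ ⟨cyc3 a b x, cyc3_mem hab hxa.symm hxb.symm⟩ : alternatingGroup α) :
        Perm α) u ≠ u := by rw [he]; exact huv.symm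
    obtain ⟨h1, h2, h4'⟩ := threeCycle_distinct h3 hne
    have e := eq_cyc3 h3 hne
    rw [he] at e h1 h2 h4'
    have hfx : f x = ((φ ⟨cyc3 a b x, cyc3_mem hab hxa.symm hxb.symm⟩ : alternatingGroup α) :
        Perm α) v := by simp [hf, hxa, hxb]
    rw [hfx]
    exact ⟨e, h2.symm, h4'.symm⟩
  have hinj : Function.Injective f := by
    intro x y hxy
    by_cases hxa : x = a
    · subst hxa
      by_contra hne
      by_cases hyb : y = b
      · subst hyb; rw [hfa, hfb] at hxy; exact huv hxy
      exact (hform y (Ne.symm hne) hyb).2.1 (hxy.symm.trans hfa)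
    by_cases hxb : x = b
    · subst hxb
      by_contra hne
      by_cases hya : y = a
      · subst hya; rw [hfa, hfb] at hxy; exact huv hxy.symm
      exact (hform y hya (Ne.symm hne)).2.2 (hxy.symm.trans hfb)
    by_cases hya : y = a
    · subst hya; exact absurd (hxy.trans hfa) (hform x hxa hxb).2.1
    by_cases hyb : y = b
    · subst hyb; exact absurd (hxy.trans hfb) (hform x hxa hxb).2.2
    have h := φ.injective (Subtype.ext ((hform x hxa hxb).1.trans
      (hxy ▸ (hform y hya hyb).1.symm)))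
    have h' := congrArg (fun g : alternatingGroup α => (g : Perm α) b) h
    simpa [cyc3_apply_mid (Ne.symm hxa) (Ne.symm hxb),
      cyc3_apply_mid (Ne.symm hya) (Ne.symm hyb)] using h'
  refine ⟨Equiv.ofBijective f (Finite.injective_iff_bijective.1 hinj), ?_⟩
  set σ := Equiv.ofBijective f (Finite.injective_iff_bijective.1 hinj) with hσ
  let F : alternatingGroup α →* Perm α :=
    (alternatingGroup α).subtype.comp (MulEquiv.toMonoidHom φ)
  let G : alternatingGroup α →* Perm α :=
    (MulAut.conj σ).toMonoidHom.comp (alternatingGroup α).subtype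
  have hgen : Subgroup.closure ((alternatingGroup α).subtype ⁻¹'
      {g : Perm α | ∃ x, x ≠ a ∧ x ≠ b ∧ g = cyc3 a b x}) = ⊤ := by
    apply Subgroup.map_injective (f := (alternatingGroup α).subtype) Subtype.val_injective
    rw [MonoidHom.map_closure, ← MonoidHom.range_eq_map, Subgroup.range_subtype,
      Set.image_preimage_eq_of_subset, closure_cyc3_pair hab]
    rintro g ⟨x, hxa, hxb, rfl⟩
    exact ⟨⟨_, cyc3_mem hab hxa.symm hxb.symm⟩, rfl⟩
  have hFG : F = G := by
    apply MonoidHom.eq_of_eqOn_dense hgen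
    rintro ⟨g, hg⟩ ⟨x, hxa, hxb, hgx⟩
    simp only [Subgroup.coe_subtype] at hgx
    subst hgx
    simp only [F, G, MonoidHom.comp_apply, MulEquiv.coe_toMonoidHom, Subgroup.coe_subtype,
      MulAut.conj_apply]
    rw [cyc3_conj, (hform x hxa hxb).1]
    simp [hσ, hfa, hfb]
  ext c : 2
  rw [MulAut.conjNormal_apply]
  exact (DFunLike.congr_fun hFG c).symm

/-- For `n ≥ 4`, `n ≠ 6`, `Aut (A_n) ≅ S_n` by conjugation. -/
theorem conjNormal_bijective (h4 : 4 ≤ Nat.card α) (h6 : Nat.card α ≠ 6) :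
    Function.Bijective (MulAut.conjNormal : Perm α →* MulAut (alternatingGroup α)) :=
  ⟨conjNormal_injective h4, fun φ => exists_conjNormal_eq h4 h6 φ⟩

theorem card_mulAut_alternatingGroup (h4 : 4 ≤ Nat.card α) (h6 : Nat.card α ≠ 6) :
    Nat.card (MulAut (alternatingGroup α)) = (Nat.card α).factorial := by
  rw [← Nat.card_congr (Equiv.ofBijective _ (conjNormal_bijective h4 h6)), Nat.card_perm]

/-- The inner automorphisms of the alternating group inside its automorphism group. -/
theorem conj_range_eq_map (α : Type*) [Fintype α] [DecidableEq α] :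
    (MulAut.conj : alternatingGroup α →* MulAut (alternatingGroup α)).range =
      (alternatingGroup α).map MulAut.conjNormal := by
  ext φ
  constructor
  · rintro ⟨g, rfl⟩
    exact ⟨g, g.2, MulAut.conjNormal_val⟩
  · rintro ⟨g, hg, rfl⟩
    exact ⟨⟨g, hg⟩, (MulAut.conjNormal_val (h := ⟨g, hg⟩)).symm⟩

theorem index_conj_range (h4 : 4 ≤ Nat.card α) (h6 : Nat.card α ≠ 6) :
    (MulAut.conj : alternatingGroup α →* MulAut (alternatingGroup α)).range.index = 2 := by
  have : Nontrivial α := Finite.one_lt_card_iff_nontrivial.1 (by omega)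
  have hbij := conjNormal_bijective (α := α) h4 h6
  rw [conj_range_eq_map, Subgroup.index_map_of_bijective hbij, alternatingGroup.index_eq_two]

/-- For `n ≠ 6`, every automorphism of the symmetric group is inner. -/
theorem exists_conj_eq (h6 : Nat.card α ≠ 6) (h4 : 4 ≤ Nat.card α) (φ : MulAut (Perm α)) :
    ∃ σ : Perm α, MulAut.conj σ = φ := by
  have hchar : (alternatingGroup α).map φ.toMonoidHom = alternatingGroup α :=
    Subgroup.characteristic_iff_map_eq.1 inferInstance φ
  let φA : MulAut (alternatingGroup α) :=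
    (φ.subgroupMap (alternatingGroup α)).trans (MulEquiv.subgroupCongr hchar)
  obtain ⟨σ, hσ⟩ := exists_conjNormal_eq h4 h6 φA
  refine ⟨σ, ?_⟩
  have hA : ∀ h ∈ alternatingGroup α, φ h = σ * h * σ⁻¹ := by
    intro h hh
    have := congrArg (fun ψ : MulAut (alternatingGroup α) =>
      ((ψ ⟨h, hh⟩ : alternatingGroup α) : Perm α)) hσ
    simp only [MulAut.conjNormal_apply] at this
    rw [this]
    rfl
  ext g : 1
  have hc : g⁻¹ * (σ⁻¹ * φ g * σ) ∈
      Subgroup.centralizer ((alternatingGroup α : Subgroup (Perm α)) : Set (Perm α)) := by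
    rw [Subgroup.mem_centralizer_iff]
    intro h hh
    have hconj : g * h * g⁻¹ ∈ alternatingGroup α :=
      (inferInstance : (alternatingGroup α).Normal).conj_mem h hh g
    have key := hA _ hconj
    rw [map_mul, map_mul, map_inv, hA h hh] at key
    calc h * (g⁻¹ * (σ⁻¹ * φ g * σ))
        = g⁻¹ * σ⁻¹ * (σ * (g * h * g⁻¹) * σ⁻¹) * φ g * σ := by group
      _ = g⁻¹ * σ⁻¹ * (φ g * (σ * h * σ⁻¹) * (φ g)⁻¹) * φ g * σ := by rw [key]
      _ = g⁻¹ * (σ⁻¹ * φ g * σ) * h := by group
  rw [centralizer_alternatingGroup_eq_bot h4, Subgroup.mem_bot, inv_mul_eq_one] at hc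
  rw [MulAut.conj_apply]
  conv_lhs => rw [hc]
  group

theorem conj_bijective (h4 : 4 ≤ Nat.card α) (h6 : Nat.card α ≠ 6) :
    Function.Bijective (MulAut.conj : Perm α →* MulAut (Perm α)) := by
  refine ⟨?_, fun φ => exists_conj_eq h6 h4 φ⟩
  rw [← MonoidHom.ker_eq_bot_iff, eq_bot_iff, ← center_perm_eq_bot (α := α) (by omega)]
  intro g hg
  rw [Subgroup.mem_center_iff]
  intro h
  have := DFunLike.congr_fun (MonoidHom.mem_ker.1 hg) h
  simp only [MulAut.conj_apply, MulAut.one_apply] at this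
  exact (mul_inv_eq_iff_eq_mul.1 this).symm

end Cfsg.Agent.Alt
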