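import Cfsg.Agent.Alt.Automorphism

set_option autoImplicit false
set_option linter.unusedSectionVars false

/-!
Subgroups of index `n` of `S_n` (`n ≠ 6`) and `A_n` (`n ≥ 5`, `n ≠ 6`) are point stabilisers.
-/

namespace Cfsg.Agent.Alt

open Equiv Equiv.Perm

variable {α : Type*} [Fintype α] [DecidableEq α]

theorem eq_stabilizer_of_le {H : Subgroup (Perm α)} (hH : H.index = Nat.card α) {x : α}
    (hle : H ≤ MulAction.stabilizer (Perm α) x) : H = MulAction.stabilizer (Perm α) x := by
  refine le_antisymm hle (Subgroup.relIndex_eq_one.1 ?_)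
  have h := Subgroup.relIndex_mul_index hle
  rw [hH, index_stabilizer_perm] at h
  exact Nat.eq_of_mul_eq_mul_right (Nat.card_pos_iff.2 ⟨⟨x⟩, inferInstance⟩) (h.trans (one_mul _).symm)

theorem exists_stabilizer_of_le_four (hn : Nat.card α ≤ 4) {H : Subgroup (Perm α)}
    (hH : H.index = Nat.card α) : ∃ x : α, H = MulAction.stabilizer (Perm α) x := by
  have hc := Subgroup.card_mul_index H
  rw [hH, Nat.card_perm] at hc
  have hne : Nat.card α ≠ 0 := hH ▸ Subgroup.index_ne_zero_of_finite
  have : Nonempty α := (Nat.card_pos_iff.1 (by omega)).1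
  obtain ⟨x0⟩ := this
  suffices ∃ x : α, H ≤ MulAction.stabilizer (Perm α) x by
    obtain ⟨x, hx⟩ := this
    exact ⟨x, eq_stabilizer_of_le hH hx⟩
  rcases (show Nat.card α ≤ 2 ∨ Nat.card α = 3 ∨ Nat.card α = 4 by omega) with h | h | h
  · refine ⟨x0, ?_⟩
    have h1 : Nat.card H = 1 := by
      interval_cases hk : Nat.card α <;> simp [Nat.factorial] at hc ⊢ <;> omega
    rw [Subgroup.eq_bot_of_card_eq H h1]
    exact bot_le
  · rw [h] at hc
    norm_num [Nat.factorial] at hc
    have h2 : Nat.card H = 2 := by omega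
    obtain ⟨g, hg⟩ : ∃ g : H, orderOf g = 2 := exists_prime_orderOf_dvd_card' 2 (by rw [h2])
    obtain ⟨x, hx⟩ : ∃ x : α, (g : Perm α) x = x := by
      refine Equiv.Perm.exists_fixed_point_of_prime (p := 2) (n := 1) ?_ ?_
      · rw [← Nat.card_eq_fintype_card, h]; decide
      · rw [pow_one, ← (Subgroup.orderOf_coe g).trans hg, pow_orderOf_eq_one]
    refine ⟨x, fun k hk => ?_⟩
    have hz : Subgroup.zpowers g = ⊤ := by
      apply Subgroup.eq_top_of_card_eq
      rw [Nat.card_zpowers, hg, h2]
    obtain ⟨i, hi⟩ := Subgroup.mem_zpowers_iff.1 (hz ▸ Subgroup.mem_top (⟨k, hk⟩ : H))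
    rw [MulAction.mem_stabilizer_iff, Perm.smul_def]
    have : k = (g : Perm α) ^ i := by
      rw [← Subgroup.coe_zpow, hi]
    rw [this]
    exact Equiv.Perm.zpow_apply_eq_self_of_apply_eq_self hx i
  · rw [h] at hc
    norm_num [Nat.factorial] at hc
    have h2 : Nat.card H = 6 := by omega
    obtain ⟨c, hcord⟩ : ∃ g : H, orderOf g = 3 :=
      haveI : Fact (Nat.Prime 3) := ⟨Nat.prime_three⟩
      exists_prime_orderOf_dvd_card' 3 (by rw [h2]; norm_num)
    have ho : orderOf (c : Perm α) = 3 := (Subgroup.orderOf_coe c).trans hcord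
    have h3 : IsThreeCycle (c : Perm α) := by
      obtain ⟨j, hj⟩ := cycleType_prime_order (σ := (c : Perm α)) (ho ▸ Nat.prime_three)
      have hs := sum_cycleType_le (c : Perm α)
      rw [hj, Multiset.sum_replicate, ho, smul_eq_mul, ← Nat.card_eq_fintype_card, h] at hs
      obtain rfl : j = 0 := by omega
      rw [ho] at hj
      exact hj.trans (by simp)
    obtain ⟨x, hx, huniq⟩ : ∃ x, (c : Perm α) x = x ∧ ∀ y, (c : Perm α) y = y → y = x := by
      have hcard : ((c : Perm α).support)ᶜ.card = 1 := by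
        rw [Finset.card_compl, h3.card_support, ← Nat.card_eq_fintype_card, h]
      obtain ⟨x, hx⟩ := Finset.card_eq_one.1 hcard
      refine ⟨x, ?_, fun y hy => ?_⟩
      · have : x ∈ ((c : Perm α).support)ᶜ := by rw [hx]; exact Finset.mem_singleton_self x
        simpa using this
      · have : y ∈ ((c : Perm α).support)ᶜ := by simpa using hy
        rw [hx] at this
        exact Finset.mem_singleton.1 this
    have hnormal : (Subgroup.zpowers c).Normal := by
      apply Subgroup.normal_of_index_eq_two
      have := Subgroup.card_mul_index (Subgroup.zpowers c)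
      rw [Nat.card_zpowers, hcord, h2] at this
      omega
    refine ⟨x, fun k hk => ?_⟩
    rw [MulAction.mem_stabilizer_iff, Perm.smul_def]
    obtain ⟨i, hi⟩ := Subgroup.mem_zpowers_iff.1
      (hnormal.conj_mem c (Subgroup.mem_zpowers c) (⟨k, hk⟩ : H)⁻¹)
    have hk' : (c : Perm α) ^ i = k⁻¹ * (c : Perm α) * k := by
      have := congrArg Subtype.val hi
      simpa using this
    have hfix : (c : Perm α) (k x) = k x := by
      have := Equiv.Perm.congr_fun hk' x
      rw [Equiv.Perm.zpow_apply_eq_self_of_apply_eq_self hx i] at this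
      simp only [Perm.mul_apply] at this
      exact Equiv.Perm.eq_inv_iff_eq.1 this |>.symm
    exact huniq _ hfix

/-- The homomorphism into the permutations of the points given by a subgroup of index `n`. -/
noncomputable def indexAct {G : Type*} [Group G] (H : Subgroup G)
    (e : (G ⧸ H) ≃ α) : G →* Perm α :=
  e.permCongrHom.toMonoidHom.comp (MulAction.toPermHom G (G ⧸ H))

theorem mem_iff_indexAct {G : Type*} [Group G] (H : Subgroup G) (e : (G ⧸ H) ≃ α) (g : G) :
    g ∈ H ↔ indexAct H e g (e ((1 : G) : G ⧸ H)) = e ((1 : G) : G ⧸ H) := by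
  simp [indexAct, Equiv.permCongrHom, Equiv.permCongr_apply, QuotientGroup.eq]

theorem ker_indexAct {G : Type*} [Group G] (H : Subgroup G) (e : (G ⧸ H) ≃ α) :
    (indexAct H e).ker = H.normalCore := by
  rw [Subgroup.normalCore_eq_ker]
  ext g
  simp only [indexAct, MonoidHom.mem_ker, MonoidHom.comp_apply, MulEquiv.coe_toMonoidHom,
    EmbeddingLike.map_eq_one_iff]

/-- For `n ≠ 6` the subgroups of index `n` of `S_n` are the point stabilisers. -/
theorem exists_stabilizer_of_index_eq (h6 : Nat.card α ≠ 6) {H : Subgroup (Perm α)}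
    (hH : H.index = Nat.card α) : ∃ x : α, H = MulAction.stabilizer (Perm α) x := by
  by_cases h4 : Nat.card α ≤ 4
  · exact exists_stabilizer_of_le_four h4 hH
  have h5 : 5 ≤ Nat.card α := by omega
  obtain ⟨e⟩ : Nonempty ((Perm α ⧸ H) ≃ α) :=
    ⟨(Finite.card_eq.1 ((Subgroup.index_eq_card H).symm.trans hH)).some⟩
  have hinj : Function.Injective (indexAct H e) := by
    rw [← MonoidHom.ker_eq_bot_iff, ker_indexAct]
    rcases normal_eq_bot_or_alt_or_top h5 H.normalCore with h | h | h
    · exact h
    all_goals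
      exfalso
      have hle : alternatingGroup α ≤ H :=
        le_trans (by rw [h]; try exact le_top) (Subgroup.normalCore_le H)
      have : Nontrivial α := Finite.one_lt_card_iff_nontrivial.1 (by omega)
      have hd := Subgroup.index_dvd_of_le hle
      rw [alternatingGroup.index_eq_two, hH] at hd
      have := Nat.le_of_dvd (by omega) hd
      omega
  obtain ⟨σ, hσ⟩ := exists_conj_eq h6 (by omega)
    (MulEquiv.ofBijective (indexAct H e) (Finite.injective_iff_bijective.1 hinj))
  refine ⟨σ⁻¹ (e ((1 : Perm α) : Perm α ⧸ H)), ?_⟩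
  ext g
  have := DFunLike.congr_fun hσ g
  simp only [MulAut.conj_apply, MulEquiv.ofBijective_apply] at this
  rw [mem_iff_indexAct H e, MulAction.mem_stabilizer_iff, Perm.smul_def, ← this]
  simp only [Perm.mul_apply]
  exact (Equiv.Perm.eq_inv_iff_eq).symm

/-- For `n ≥ 5`, `n ≠ 6` the subgroups of index `n` of `A_n` are the point stabilisers. -/
theorem exists_stabilizer_of_index_eq_alt (h5 : 5 ≤ Nat.card α) (h6 : Nat.card α ≠ 6)
    {H : Subgroup (alternatingGroup α)} (hH : H.index = Nat.card α) :
    ∃ x : α, H = MulAction.stabilizer (alternatingGroup α) x := by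
  have : IsSimpleGroup (alternatingGroup α) := alternatingGroup.isSimpleGroup h5
  have : Nontrivial α := Finite.one_lt_card_iff_nontrivial.1 (by omega)
  obtain ⟨e⟩ : Nonempty ((alternatingGroup α ⧸ H) ≃ α) :=
    ⟨(Finite.card_eq.1 ((Subgroup.index_eq_card H).symm.trans hH)).some⟩
  have hinj : Function.Injective (indexAct H e) := by
    rw [← MonoidHom.ker_eq_bot_iff, ker_indexAct]
    refine (inferInstance : H.normalCore.Normal).eq_bot_or_eq_top.resolve_right fun h => ?_
    have htop : H = ⊤ := top_le_iff.1 (h ▸ Subgroup.normalCore_le H)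
    rw [htop, Subgroup.index_top] at hH
    omega
  have hrange : (indexAct H e).range = alternatingGroup α := by
    apply eq_alternatingGroup_of_index_eq_two
    have h := Subgroup.card_mul_index (indexAct H e).range
    rw [← Nat.card_congr (MonoidHom.ofInjective hinj).toEquiv, Nat.card_perm,
      ← two_mul_nat_card_alternatingGroup (α := α) |>.trans Nat.card_perm, mul_comm 2] at h
    exact Nat.eq_of_mul_eq_mul_left Nat.card_pos h
  obtain ⟨σ, hσ⟩ := exists_conjNormal_eq (by omega) h6
    ((MonoidHom.ofInjective hinj).trans (MulEquiv.subgroupCongr hrange))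
  refine ⟨σ⁻¹ (e ((1 : alternatingGroup α) : alternatingGroup α ⧸ H)), ?_⟩
  ext g
  have : σ * (g : Perm α) * σ⁻¹ = indexAct H e g := by
    rw [← MulAut.conjNormal_apply, hσ]
    rfl
  rw [mem_iff_indexAct H e, MulAction.mem_stabilizer_iff, ← this]
  change (σ * (g : Perm α) * σ⁻¹) _ = _ ↔ (g : Perm α) _ = _
  simp only [Perm.mul_apply]
  exact (Equiv.Perm.eq_inv_iff_eq).symm

end Cfsg.Agent.Alt
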