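import Cfsg.Prelude.Def_KGroupFacts
import Cfsg.Agent.Alt.Automorphism

set_option autoImplicit false
set_option linter.unusedSectionVars false

namespace Cfsg.Agent.Alt

variable {α : Type*} [Fintype α] [DecidableEq α]

/-- The outer automorphism group of `A_n`, `n ≥ 4`, `n ≠ 6`, has order two. -/
theorem card_out_alternatingGroup (h4 : 4 ≤ Nat.card α) (h6 : Nat.card α ≠ 6) :
    Nat.card (Cfsg.Out (alternatingGroup α)) = 2 :=
  (Subgroup.index_eq_card (Cfsg.Inn (alternatingGroup α))).symm.trans (index_conj_range h4 h6)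

end Cfsg.Agent.Alt
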