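import Mathlib.GroupTheory.Solvable
import Mathlib.GroupTheory.Perm.Basic
import Mathlib.GroupTheory.Sylow
import Mathlib.Algebra.Module.ZMod
import Mathlib.LinearAlgebra.FiniteDimensional.Basic
import Mathlib.LinearAlgebra.Eigenspace.Zero
import Mathlib.Algebra.CharP.Lemmas
import Mathlib.Algebra.CharP.Algebra
import Mathlib.Algebra.Polynomial.AlgebraMap
import Mathlib.Dynamics.PeriodicPts.Defs
import Mathlib.FieldTheory.Finite.Basic

/-!
A solvable permutation group containing a full cycle of odd prime power length `p ^ e` respects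
the residues modulo `p` along the cycle, and acts on them by affine maps.
-/

namespace Cfsg.Agent.AltSolvCycle

open Equiv
open scoped commutatorElement

variable {α : Type*}

theorem pow_apply_eq_iff (c : Perm α) (x : α) (hfin : Finite α) {i j : ℕ} :
    (c ^ i) x = (c ^ j) x ↔ i % Function.minimalPeriod c x = j % Function.minimalPeriod c x := by
  haveI := hfin
  have hpos : 0 < Function.minimalPeriod c x := by
    apply Function.minimalPeriod_pos_of_mem_periodicPts
    refine ⟨orderOf c, orderOf_pos c, ?_⟩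
    show (⇑c)^[orderOf c] x = x
    rw [← Perm.coe_pow, pow_orderOf_eq_one]
    rfl
  rw [Perm.coe_pow, Perm.coe_pow, ← Function.iterate_mod_minimalPeriod_eq (f := c) (n := i),
    ← Function.iterate_mod_minimalPeriod_eq (f := c) (n := j)]
  exact ⟨fun h => Function.iterate_injOn_Iio_minimalPeriod (Nat.mod_lt _ hpos)
    (Nat.mod_lt _ hpos) h, fun h => by rw [h]⟩

theorem card_eq_minimalPeriod [Finite α] (c : Perm α) (x₀ : α)
    (hcyc : ∀ x, ∃ i : ℕ, (c ^ i) x₀ = x) : Nat.card α = Function.minimalPeriod c x₀ := by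
  have hpos : 0 < Function.minimalPeriod c x₀ := by
    apply Function.minimalPeriod_pos_of_mem_periodicPts
    refine ⟨orderOf c, orderOf_pos c, ?_⟩
    show (⇑c)^[orderOf c] x₀ = x₀
    rw [← Perm.coe_pow, pow_orderOf_eq_one]
    rfl
  rw [← Nat.card_fin (Function.minimalPeriod c x₀)]
  refine (Nat.card_eq_of_bijective (fun i : Fin _ => (c ^ (i : ℕ)) x₀) ⟨fun i j h => ?_, fun x => ?_⟩).symm
  · have := (pow_apply_eq_iff c x₀ ‹_›).1 h
    rw [Nat.mod_eq_of_lt i.2, Nat.mod_eq_of_lt j.2] at this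
    exact Fin.ext this
  · obtain ⟨i, hi⟩ := hcyc x
    refine ⟨⟨i % Function.minimalPeriod c x₀, Nat.mod_lt _ hpos⟩, ?_⟩
    rw [← hi]
    exact (pow_apply_eq_iff c x₀ ‹_›).2 (Nat.mod_mod _ _)

open Polynomial in
theorem geom_sum_pow_char (p j : ℕ) [Fact p.Prime] :
    ∑ i ∈ Finset.range (p ^ j), (X : (ZMod p)[X]) ^ i = (X - 1) ^ (p ^ j - 1) := by
  have h1 : (X - 1 : (ZMod p)[X]) ≠ 0 := by
    rw [← map_one C]
    exact X_sub_C_ne_zero 1
  refine mul_right_cancel₀ h1 ?_
  rw [geom_sum_mul, ← pow_succ, Nat.sub_add_cancel (Nat.one_le_pow _ _ (Fact.out : p.Prime).pos),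
    sub_pow_char_pow, one_pow]

theorem succ_le_pow {p e : ℕ} (hp : 3 ≤ p) (he : 2 ≤ e) : e + 1 ≤ p ^ (e - 1) := by
  obtain ⟨d, rfl⟩ : ∃ d, e = d + 2 := ⟨e - 2, by omega⟩
  rw [show d + 2 - 1 = d + 1 by omega]
  induction d with
  | zero => simpa using hp
  | succ d ih =>
    rw [pow_succ p (d + 1)]
    calc d + 1 + 2 + 1 ≤ (d + 2 + 1) * 3 := by omega
      _ ≤ p ^ (d + 1) * p := Nat.mul_le_mul (ih (by omega)) hp

/-- The linear part of a full cycle normalising a regular module. -/
theorem exponent_core {p e : ℕ} [Fact p.Prime] (hp : 3 ≤ p) [Finite α] {M : Type*} [AddCommGroup M]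
    [Module (ZMod p) M] [Finite M] (ι : M → Perm α) (x₀ : α)
    (hι0 : ι 0 = 1) (hιadd : ∀ x y, ι (x + y) = ι x * ι y)
    (hι : Function.Bijective fun x : M => ι x x₀) (c : Perm α) (θ₀ : M →+ M)
    (hθ₀ : ∀ x, ι (θ₀ x) = c * ι x * c⁻¹)
    (hcyc : ∀ x, ∃ i : ℕ, (c ^ i) x₀ = x) (hcard : Nat.card α = p ^ e) (he : 0 < e) :
    e ≤ 1 ∧ ∃ n, c = ι n := by
  classical
  have hper : Function.minimalPeriod c x₀ = p ^ e := (card_eq_minimalPeriod c x₀ hcyc).symm.trans hcard
  have hM : Nat.card M = p ^ e := (Nat.card_eq_of_bijective _ hι).trans hcard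
  haveI : Module.Finite (ZMod p) M := Module.Finite.of_finite
  have hfr : Module.finrank (ZMod p) M = e := by
    apply Nat.pow_right_injective (Fact.out : p.Prime).two_le
    show p ^ Module.finrank (ZMod p) M = p ^ e
    rw [← hM, Module.natCard_eq_pow_finrank (K := ZMod p) (V := M), Nat.card_zmod]
  let θ : Module.End (ZMod p) M := θ₀.toZModLinearMap p
  have hθ : ∀ x, ι (θ x) = c * ι x * c⁻¹ := hθ₀
  have hθpow : ∀ (m : ℕ) (x : M), ι ((θ ^ m) x) = c ^ m * ι x * (c ^ m)⁻¹ := by
    intro m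
    induction m with
    | zero => intro x; simp
    | succ m ih =>
      intro x
      rw [pow_succ', Module.End.mul_apply, hθ, ih, pow_succ']
      group
  obtain ⟨n₀, hn₀⟩ := hι.2 (c x₀)
  have hsum : ∀ m : ℕ, (c ^ m) x₀ = ι ((∑ i ∈ Finset.range m, θ ^ i) n₀) x₀ := by
    intro m
    induction m with
    | zero => simp [hι0]
    | succ m ih =>
      rw [geom_sum_succ, LinearMap.add_apply, Module.End.mul_apply, Module.End.one_apply,
        pow_succ', Perm.mul_apply, ih]
      set y := (∑ i ∈ Finset.range m, θ ^ i) n₀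
      show c (ι y x₀) = ι (θ y + n₀) x₀
      rw [hιadd, hθ, Perm.mul_apply]
      simp only at hn₀
      rw [hn₀]
      simp
  have hcpow : c ^ p ^ e = 1 := by
    ext x
    obtain ⟨i, rfl⟩ := hcyc x
    rw [← Perm.mul_apply, ← pow_add, Perm.one_apply]
    refine (pow_apply_eq_iff c x₀ ‹_›).2 ?_
    rw [hper, Nat.add_mod_left]
  have hθ1 : θ ^ p ^ e = 1 := LinearMap.ext fun x => hι.1 (show ι _ x₀ = ι _ x₀ by
    rw [hθpow, hcpow]; simp)
  haveI : Nontrivial M := Finite.one_lt_card_iff_nontrivial.1 (by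
    rw [hM]; exact Nat.one_lt_pow he.ne' (Fact.out : p.Prime).one_lt)
  haveI : CharP (Module.End (ZMod p) M) p :=
    charP_of_injective_algebraMap (algebraMap (ZMod p) (Module.End (ZMod p) M)).injective p
  have hL : (θ - 1) ^ e = 0 := by
    have h0 : (θ - 1) ^ p ^ e = 0 := by
      rw [sub_pow_char_pow_of_commute p e (Commute.one_right θ), hθ1, one_pow, sub_self]
    have := Module.End.ker_pow_eq_ker_pow_finrank_of_le (f := θ - 1)
      (m := p ^ e) (by rw [hfr]; exact (Nat.lt_pow_self (Fact.out : p.Prime).one_lt).le)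
    rw [h0, LinearMap.ker_zero, hfr] at this
    exact LinearMap.ker_eq_top.1 this.symm
  have hle : e ≤ 1 := by
    by_contra h
    have hz : ∑ i ∈ Finset.range (p ^ (e - 1)), θ ^ i = 0 := by
      have := congrArg (Polynomial.aeval θ) (geom_sum_pow_char p (e - 1))
      simp only [map_sum, map_pow, map_sub, map_one, Polynomial.aeval_X] at this
      rw [this]
      have h2 := succ_le_pow hp (show 2 ≤ e by omega)
      exact pow_eq_zero_of_le (by omega) hL
    have h1 := hsum (p ^ (e - 1))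
    rw [hz] at h1
    have h2 : (c ^ p ^ (e - 1)) x₀ = (c ^ 0) x₀ := by
      rw [h1]; simp [hι0]
    rw [pow_apply_eq_iff c x₀ ‹_›, hper] at h2
    have hlt : p ^ (e - 1) < p ^ e := Nat.pow_lt_pow_right (Fact.out : p.Prime).one_lt (by omega)
    rw [Nat.mod_eq_of_lt hlt, Nat.zero_mod] at h2
    have := Nat.one_le_pow (e - 1) p (Fact.out : p.Prime).pos
    omega
  refine ⟨hle, n₀, ?_⟩
  have h1 : e = 1 := by omega
  subst h1
  rw [pow_one, sub_eq_zero] at hL
  have hcomm : ∀ x : M, c * ι x = ι x * c := fun x => by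
    have := hθ x
    rw [hL, Module.End.one_apply] at this
    calc c * ι x = (c * ι x * c⁻¹) * c := by group
      _ = ι x * c := by rw [← this]
  ext y
  obtain ⟨x, rfl⟩ := hι.2 y
  show (c * ι x) x₀ = (ι n₀ * ι x) x₀
  rw [hcomm, show ι n₀ * ι x = ι x * ι n₀ by rw [← hιadd, ← hιadd, add_comm],
    Perm.mul_apply, Perm.mul_apply]
  exact congrArg _ hn₀.symm

/-- A full cycle normalising a transitive abelian group of exponent `p`. -/
theorem exponent_le_one {p e : ℕ} [Fact p.Prime] (hp : 3 ≤ p) [Finite α] (A : Subgroup (Perm α))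
    (hA : IsMulCommutative A) (hexp : ∀ a ∈ A, a ^ p = 1) (x₀ : α)
    (htr : ∀ x, ∃ a ∈ A, a x₀ = x) (c : Perm α) (hcn : ∀ a ∈ A, c * a * c⁻¹ ∈ A)
    (hcyc : ∀ x, ∃ i : ℕ, (c ^ i) x₀ = x) (hcard : Nat.card α = p ^ e) :
    e ≤ 1 ∧ (e = 1 → c ∈ A) := by
  classical
  have hreg : ∀ a ∈ A, ∀ b ∈ A, a x₀ = b x₀ → a = b := by
    intro a ha b hb h
    ext x
    obtain ⟨d, hd, rfl⟩ := htr x
    have e1 : a * d = d * a := congrArg Subtype.val (hA.is_comm.comm (⟨a, ha⟩ : A) ⟨d, hd⟩)
    have e2 : b * d = d * b := congrArg Subtype.val (hA.is_comm.comm (⟨b, hb⟩ : A) ⟨d, hd⟩)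
    show (a * d) x₀ = (b * d) x₀
    rw [e1, e2, Perm.mul_apply, Perm.mul_apply, h]
  letI : CommGroup A := { (inferInstance : Group A) with mul_comm := hA.is_comm.comm }
  letI instMod : Module (ZMod p) (Additive A) := AddCommGroup.zmodModule (n := p) fun x => by
    show Additive.ofMul ((Additive.toMul x) ^ p) = 0
    rw [show Additive.toMul x ^ p = 1 from Subtype.ext (hexp _ (Additive.toMul x).2)]
    rfl
  haveI : Finite A := Subtype.finite
  haveI : Finite (Additive A) := (inferInstance : Finite A)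
  haveI : Module.Finite (ZMod p) (Additive A) := Module.Finite.of_finite
  let ι : Additive A → Perm α := fun x => ((Additive.toMul x : A) : Perm α)
  have hι : Function.Bijective fun x : Additive A => ι x x₀ := by
    refine ⟨fun x y h => ?_, fun y => ?_⟩
    · exact Additive.toMul.injective (Subtype.ext (hreg _ (Additive.toMul x).2 _ (Additive.toMul y).2 h))
    · obtain ⟨a, ha, h⟩ := htr y
      exact ⟨Additive.ofMul ⟨a, ha⟩, h⟩
  rcases Nat.eq_zero_or_pos e with rfl | he
  · exact ⟨zero_le_one, fun h => absurd h (by omega)⟩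
  let θ₀ : Additive A →+ Additive A :=
    { toFun := fun x => Additive.ofMul ⟨c * ι x * c⁻¹, hcn _ (Additive.toMul x).2⟩
      map_zero' := by
        apply Additive.toMul.injective
        exact Subtype.ext (by simp [ι])
      map_add' := fun x y => by
        apply Additive.toMul.injective
        exact Subtype.ext (by simp only [ι, toMul_ofMul, toMul_add, Subgroup.coe_mul]; group) }
  obtain ⟨hle, n, hn⟩ := exponent_core hp ι x₀ rfl (fun _ _ => rfl) hι c θ₀ (fun _ => rfl) hcyc hcard he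
  exact ⟨hle, fun _ => hn ▸ (Additive.toMul n).2⟩

universe u

/-- A solvable group containing a full cycle of length `p ^ e` acts on the residues modulo `p`
by affine maps. -/
theorem affine_of_solvable_cycle {p : ℕ} [Fact p.Prime] (hp : 3 ≤ p) {α : Type u} [Finite α]
    {e : ℕ} (he : 0 < e) (G : Subgroup (Perm α)) (hG : Group.IsSolvable G) (c : Perm α) (hc : c ∈ G)
    (x₀ : α) (hcyc : ∀ x, ∃ i : ℕ, (c ^ i) x₀ = x) (hcard : Nat.card α = p ^ e) (f : α → ZMod p)
    (hf : ∀ x, f (c x) = f x + 1) :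
    ∀ g ∈ G, ∃ a b : ZMod p, ∀ x, f (g x) = a * f x + b := by
  classical
  suffices H : ∀ N : ℕ, ∀ {α : Type u} [Finite α], Nat.card α = N →
      ∀ {e : ℕ}, 0 < e → ∀ (G : Subgroup (Perm α)), Group.IsSolvable G → ∀ c ∈ G, ∀ x₀ : α,
      (∀ x, ∃ i : ℕ, (c ^ i) x₀ = x) → Nat.card α = p ^ e → ∀ f : α → ZMod p,
      (∀ x, f (c x) = f x + 1) → ∀ g ∈ G, ∃ a b : ZMod p, ∀ x, f (g x) = a * f x + b from
    H _ rfl he G hG c hc x₀ hcyc hcard f hf
  intro N
  induction N using Nat.strong_induction_on with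
  | _ N ih =>
    intro α _ hN e he G hG c hc x₀ hcyc hcard f hf
    have hper : Function.minimalPeriod c x₀ = p ^ e :=
      (card_eq_minimalPeriod c x₀ hcyc).symm.trans hcard
    have hfi : ∀ (i : ℕ) (x : α), f ((c ^ i) x) = f x + i := by
      intro i
      induction i with
      | zero => simp
      | succ i ihi => intro x; rw [pow_succ', Perm.mul_apply, hf, ihi]; push_cast; ring
    -- an intransitive non-trivial normal subgroup
    have case1 : ∀ A : Subgroup (Perm α), A ≤ G → (∀ g ∈ G, ∀ a ∈ A, g * a * g⁻¹ ∈ A) → A ≠ ⊥ →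
        ¬ (∀ x, ∃ a ∈ A, a x₀ = x) → ∀ g ∈ G, ∃ a b : ZMod p, ∀ x, f (g x) = a * f x + b := by
      intro A _ hAn hA1 hAt
      let s : Setoid α := MulAction.orbitRel A α
      have hrel : ∀ x y : α, s.r x y ↔ ∃ a ∈ A, a y = x := fun x y => by
        refine ⟨fun h => ?_, ?_⟩
        · obtain ⟨a, ha⟩ := (h : x ∈ MulAction.orbit A y)
          exact ⟨a, a.2, ha⟩
        · rintro ⟨a, ha, rfl⟩
          exact ⟨(⟨a, ha⟩ : A), rfl⟩
      have hg : ∀ g ∈ G, ∀ x y, s.r x y → s.r (g x) (g y) := by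
        intro g hg x y h
        obtain ⟨a, ha, rfl⟩ := (hrel x y).1 h
        exact (hrel _ _).2 ⟨g * a * g⁻¹, hAn g hg a ha, by simp⟩
      let φ : G →* Perm (Quotient s) :=
        { toFun := fun g => Quotient.congr (g : Perm α) fun x y => ⟨hg g g.2 x y, fun h => by
            have := hg _ (G.inv_mem g.2) _ _ h
            simpa using this⟩
          map_one' := by ext q; induction q using Quotient.inductionOn; rfl
          map_mul' := fun a b => by ext q; induction q using Quotient.inductionOn; rfl }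
      have hφ : ∀ (g : G) (x : α), φ g ⟦x⟧ = ⟦(g : Perm α) x⟧ := fun _ _ => rfl
      haveI : Finite (Quotient s) := Quotient.finite s
      let c' : Perm (Quotient s) := φ ⟨c, hc⟩
      have hc' : ∀ (i : ℕ) (x : α), (c' ^ i) ⟦x⟧ = ⟦(c ^ i) x⟧ := fun i x => by
        show ((φ ⟨c, hc⟩) ^ i) ⟦x⟧ = _
        rw [← map_pow, hφ]
        rfl
      have hcyc' : ∀ q, ∃ i : ℕ, (c' ^ i) ⟦x₀⟧ = q := by
        intro q
        induction q using Quotient.inductionOn with
        | h x =>
          obtain ⟨i, hi⟩ := hcyc x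
          exact ⟨i, by rw [hc', hi]⟩
      have hdvd : Nat.card (Quotient s) ∣ p ^ e := by
        rw [card_eq_minimalPeriod c' _ hcyc']
        apply Function.IsPeriodicPt.minimalPeriod_dvd
        show (⇑c')^[p ^ e] ⟦x₀⟧ = ⟦x₀⟧
        rw [← Perm.coe_pow, hc']
        congr 1
        have := (pow_apply_eq_iff c x₀ ‹_› (i := p ^ e) (j := 0)).2 (by rw [hper]; simp)
        simpa using this
      obtain ⟨e', he'le, he'⟩ := (Nat.dvd_prime_pow Fact.out).1 hdvd
      have he'pos : 0 < e' := by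
        rcases Nat.eq_zero_or_pos e' with rfl | h
        · exfalso
          rw [pow_zero] at he'
          haveI := (Nat.card_eq_one_iff_unique.1 he').1
          exact hAt fun x => (hrel x x₀).1 (Quotient.exact (Subsingleton.elim ⟦x⟧ ⟦x₀⟧))
        · exact h
      have hlt : Nat.card (Quotient s) < N := by
        rw [← hN]
        refine lt_of_le_of_ne (Nat.card_le_card_of_surjective _ Quotient.mk_surjective) fun heq => ?_
        have hinj : Function.Injective (Quotient.mk s) :=
          ((Function.Surjective.bijective_of_nat_card_le Quotient.mk_surjective heq.ge)).1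
        refine hA1 ((Subgroup.eq_bot_iff_forall A).2 fun a ha => Perm.ext fun x => ?_)
        exact hinj (Quotient.sound ((hrel _ _).2 ⟨a, ha, rfl⟩))
      have hfwd : ∀ x y, s.r x y → f x = f y := by
        intro x y h
        obtain ⟨i, rfl⟩ := hcyc x
        obtain ⟨j, rfl⟩ := hcyc y
        have h' : (c' ^ i) ⟦x₀⟧ = (c' ^ j) ⟦x₀⟧ := by
          rw [hc', hc']; exact Quotient.sound h
        rw [pow_apply_eq_iff c' _ inferInstance, ← card_eq_minimalPeriod c' _ hcyc', he'] at h'
        have h2 : i % p = j % p := by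
          have hd : p ∣ p ^ e' := dvd_pow_self p he'pos.ne'
          rw [← Nat.mod_mod_of_dvd i hd, h', Nat.mod_mod_of_dvd j hd]
        rw [hfi, hfi, (ZMod.natCast_eq_natCast_iff' i j p).2 h2]
      let f' : Quotient s → ZMod p := Quotient.lift f hfwd
      have hf' : ∀ q, f' (c' q) = f' q + 1 := by
        intro q
        induction q using Quotient.inductionOn with
        | h x => exact hf x
      intro g hgG
      haveI := hG
      obtain ⟨a, b, hab⟩ := ih _ hlt rfl he'pos φ.range
        (Group.isSolvable_of_surjective φ.rangeRestrict_surjective) c' ⟨_, rfl⟩ ⟦x₀⟧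
        hcyc' he' f' hf' _ ⟨⟨g, hgG⟩, rfl⟩
      exact ⟨a, b, fun x => hab ⟦x⟧⟩
    -- a non-trivial normal abelian subgroup
    haveI : Nontrivial α := Finite.one_lt_card_iff_nontrivial.1 (by
      rw [hcard]; exact Nat.one_lt_pow he.ne' (Fact.out : p.Prime).one_lt)
    haveI : Nontrivial G := ⟨⟨⟨c, hc⟩, 1, fun h => by
      obtain ⟨y, hy⟩ := exists_ne x₀
      obtain ⟨i, hi⟩ := hcyc y
      apply hy
      rw [← hi, show c = 1 from congrArg Subtype.val h]
      simp⟩⟩
    obtain ⟨n, hn⟩ := (Group.isSolvable_def G).1 hG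
    obtain ⟨m, hm1, hm0⟩ : ∃ m, derivedSeries G m ≠ ⊥ ∧ derivedSeries G (m + 1) = ⊥ := by
      by_contra h
      push Not at h
      have : ∀ m, derivedSeries G m ≠ ⊥ := fun m => by
        induction m with
        | zero => simp
        | succ m ihm => exact h m ihm
      exact this n hn
    let A : Subgroup (Perm α) := (derivedSeries G m).map G.subtype
    have hAle : A ≤ G := Subgroup.map_subtype_le _
    have hAn : ∀ g ∈ G, ∀ a ∈ A, g * a * g⁻¹ ∈ A := by
      rintro g hg _ ⟨a, ha, rfl⟩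
      exact ⟨_, (derivedSeries_normal G m).conj_mem a ha ⟨g, hg⟩, rfl⟩
    have hA1 : A ≠ ⊥ := by
      rwa [Ne, Subgroup.map_eq_bot_iff_of_injective _ G.subtype_injective]
    have hAc : IsMulCommutative A := by
      refine ⟨⟨?_⟩⟩
      rintro ⟨_, a, ha, rfl⟩ ⟨_, b, hb, rfl⟩
      apply Subtype.ext
      show G.subtype a * G.subtype b = G.subtype b * G.subtype a
      rw [← map_mul, ← map_mul]
      have : ⁅a, b⁆ ∈ derivedSeries G (m + 1) := Subgroup.commutator_mem_commutator ha hb
      rw [hm0, Subgroup.mem_bot, commutatorElement_eq_one_iff_mul_comm] at this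
      rw [this]
    by_cases htr : ∀ x, ∃ a ∈ A, a x₀ = x
    swap
    · exact case1 A hAle hAn hA1 htr
    -- the elements of order dividing `p`
    let B : Subgroup (Perm α) :=
      { carrier := {a | a ∈ A ∧ a ^ p = 1}
        one_mem' := ⟨A.one_mem, one_pow _⟩
        mul_mem' := fun {a b} ha hb => ⟨A.mul_mem ha.1 hb.1, by
          have hab : Commute a b := congrArg Subtype.val (hAc.is_comm.comm (⟨a, ha.1⟩ : A) ⟨b, hb.1⟩)
          rw [hab.mul_pow, ha.2, hb.2, one_mul]⟩
        inv_mem' := fun {a} ha => ⟨A.inv_mem ha.1, by rw [inv_pow, ha.2, inv_one]⟩ }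
    have hBle : B ≤ G := fun a ha => hAle ha.1
    have hBn : ∀ g ∈ G, ∀ a ∈ B, g * a * g⁻¹ ∈ B := fun g hg a ha =>
      ⟨hAn g hg a ha.1, by rw [conj_pow, ha.2, mul_one, mul_inv_cancel]⟩
    have hB1 : B ≠ ⊥ := by
      have hinj : Function.Bijective fun a : A => (a : Perm α) x₀ := by
        refine ⟨fun a b h => Subtype.ext (Perm.ext fun x => ?_), fun x => ?_⟩
        · obtain ⟨d, hd, rfl⟩ := htr x
          show ((a : Perm α) * d) x₀ = ((b : Perm α) * d) x₀
          rw [show (a : Perm α) * d = d * a from congrArg Subtype.val (hAc.is_comm.comm a ⟨d, hd⟩),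
            show (b : Perm α) * d = d * b from congrArg Subtype.val (hAc.is_comm.comm b ⟨d, hd⟩)]
          simp only [Perm.mul_apply]
          exact congrArg d h
        · obtain ⟨a, ha, h⟩ := htr x
          exact ⟨⟨a, ha⟩, h⟩
      have hcA : Nat.card A = p ^ e := (Nat.card_eq_of_bijective _ hinj).trans hcard
      obtain ⟨a, ha⟩ := exists_prime_orderOf_dvd_card' p (G := A) (by
        rw [hcA]; exact dvd_pow_self p he.ne')
      intro hbot
      have : (a : Perm α) ∈ B := ⟨a.2, by rw [← Subgroup.coe_pow, ← ha, pow_orderOf_eq_one]; rfl⟩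
      rw [hbot, Subgroup.mem_bot] at this
      rw [show a = 1 from Subtype.ext this, orderOf_one] at ha
      have := (Fact.out : p.Prime).one_lt
      omega
    by_cases htrB : ∀ x, ∃ a ∈ B, a x₀ = x
    swap
    · exact case1 B hBle hBn hB1 htrB
    have hBc : IsMulCommutative B := ⟨⟨fun a b => Subtype.ext
      (congrArg Subtype.val (hAc.is_comm.comm (⟨a, a.2.1⟩ : A) ⟨b, b.2.1⟩) :)⟩⟩
    obtain ⟨he1, hcB⟩ := exponent_le_one hp B hBc (fun a ha => ha.2) x₀ htrB c (hBn c hc) hcyc hcard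
    have hcB := hcB (by omega)
    intro g hg
    obtain ⟨r, hr⟩ := hcyc ((g * c * g⁻¹) x₀)
    have hreg : g * c * g⁻¹ = c ^ r := by
      ext x
      obtain ⟨i, rfl⟩ := hcyc x
      have h1 : (g * c * g⁻¹) * c ^ i = c ^ i * (g * c * g⁻¹) := congrArg Subtype.val
        (hBc.is_comm.comm (⟨_, hBn g hg c hcB⟩ : B) ⟨_, B.pow_mem hcB i⟩)
      show ((g * c * g⁻¹) * c ^ i) x₀ = (c ^ r * c ^ i) x₀
      rw [h1, ← pow_add, add_comm r i, pow_add, Perm.mul_apply (c ^ i), Perm.mul_apply (c ^ i), hr]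
    refine ⟨(r : ZMod p), f (g x₀) - r * f x₀, fun x => ?_⟩
    obtain ⟨i, rfl⟩ := hcyc x
    have h2 : g * c ^ i = c ^ (r * i) * g := by
      rw [pow_mul, ← hreg, conj_pow]
      group
    show f ((g * c ^ i) x₀) = _
    rw [h2, Perm.mul_apply, hfi, hfi]
    push_cast
    ring

end Cfsg.Agent.AltSolvCycle
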