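import Cfsg.Agent.Alt.Basic

set_option autoImplicit false
set_option linter.unusedSectionVars false

/-!
Three-cycles of the alternating group: normal forms, the combinatorics of pairs whose product
is an involution, generation, and invariance of the class under automorphisms.
-/

namespace Cfsg.Agent.Alt

open Equiv Equiv.Perm

variable {α : Type*} [Fintype α] [DecidableEq α]

/-- The three-cycle sending `a ↦ b ↦ c ↦ a`. -/
def cyc3 (a b c : α) : Perm α := swap a b * swap b c

theorem cyc3_apply_left {a b c : α} (hab : a ≠ b) (hac : a ≠ c) : cyc3 a b c a = b := by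
  simp [cyc3, swap_apply_of_ne_of_ne hab hac]

theorem cyc3_apply_mid {a b c : α} (hac : a ≠ c) (hbc : b ≠ c) : cyc3 a b c b = c := by
  simp [cyc3, swap_apply_of_ne_of_ne hac.symm hbc.symm]

theorem cyc3_apply_right (a b c : α) : cyc3 a b c c = a := by simp [cyc3]

theorem cyc3_apply_other {a b c x : α} (hxa : x ≠ a) (hxb : x ≠ b) (hxc : x ≠ c) :
    cyc3 a b c x = x := by
  simp [cyc3, swap_apply_of_ne_of_ne hxb hxc, swap_apply_of_ne_of_ne hxa hxb]

theorem cyc3_conj (p : Perm α) (a b c : α) :
    p * cyc3 a b c * p⁻¹ = cyc3 (p a) (p b) (p c) := by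
  simp only [cyc3, swap_apply_apply]
  group

theorem isThreeCycle_cyc3 {a b c : α} (hab : a ≠ b) (hac : a ≠ c) (hbc : b ≠ c) :
    IsThreeCycle (cyc3 a b c) := by
  rw [cyc3, swap_comm a b]
  exact isThreeCycle_swap_mul_swap_same hab.symm hbc hac

theorem cyc3_mem {a b c : α} (hab : a ≠ b) (hac : a ≠ c) (hbc : b ≠ c) :
    cyc3 a b c ∈ alternatingGroup α :=
  (isThreeCycle_cyc3 hab hac hbc).mem_alternatingGroup

theorem threeCycle_apply_three {g : Perm α} (hg : IsThreeCycle g) (x : α) :
    g (g (g x)) = x := by
  have h := pow_orderOf_eq_one g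
  rw [hg.orderOf] at h
  simpa [pow_succ] using Equiv.Perm.congr_fun h x

theorem threeCycle_distinct {g : Perm α} (hg : IsThreeCycle g) {x : α} (hx : g x ≠ x) :
    x ≠ g x ∧ x ≠ g (g x) ∧ g x ≠ g (g x) := by
  refine ⟨hx.symm, fun h => ?_, fun h => hx (g.injective h).symm⟩
  exact hx (by conv_lhs => rw [h, threeCycle_apply_three hg])

theorem eq_cyc3 {g : Perm α} (hg : IsThreeCycle g) {x : α} (hx : g x ≠ x) :
    g = cyc3 x (g x) (g (g x)) := by
  obtain ⟨h1, h2, h3⟩ := threeCycle_distinct hg hx
  ext y
  by_cases ha : y = x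
  · rw [ha, cyc3_apply_left h1 h2]
  by_cases hb : y = g x
  · rw [hb, cyc3_apply_mid h2 h3]
  by_cases hc : y = g (g x)
  · rw [hc, cyc3_apply_right, threeCycle_apply_three hg]
  rw [cyc3_apply_other ha hb hc]
  by_contra hy
  have hmem : y ∈ g.support := mem_support.2 hy
  rw [(hg.support_eq_iff_mem_support).2 (mem_support.2 hx)] at hmem
  simp only [Finset.mem_insert, Finset.mem_singleton] at hmem
  tauto

/-- If two three-cycles have product of order at most two, then they agree on the image of
any point moved by the second only. -/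
theorem agree_of_mul_mul_eq_one {A B : Perm α} (hB : IsThreeCycle B)
    (h : A * B * (A * B) = 1) {w : α} (hA : A w = w) :
    A (B w) = B (B w) := by
  have h1 := Equiv.Perm.congr_fun h w
  simp only [Perm.mul_apply, Perm.one_apply] at h1
  have h2 : B (A (B w)) = w := A.injective (by rw [h1, hA])
  exact B.injective (by rw [h2, threeCycle_apply_three hB])

/-- Two three-cycles, neither equal nor inverse, whose product squares to one, share a
directed edge: they have the forms `(u v z)` and `(u v w)`. -/
theorem shared_edge {A B : Perm α} (hA : IsThreeCycle A) (hB : IsThreeCycle B)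
    (hne : A ≠ B) (hne' : A ≠ B⁻¹) (h : A * B * (A * B) = 1) :
    ∃ u, A u ≠ u ∧ A u = B u ∧ A (B (B u)) = B (B u) := by
  obtain ⟨w, hBw, hAw⟩ : ∃ w, B w ≠ w ∧ A w = w := by
    by_contra hcon
    push Not at hcon
    obtain ⟨x, hx⟩ : ∃ x, B x ≠ x := by
      by_contra hall
      push Not at hall
      exact hB.ne_one (Equiv.ext hall)
    obtain ⟨h1, h2, h3⟩ := threeCycle_distinct hB hx
    have hsub : B.support ⊆ A.support := fun y hy =>
      mem_support.2 (hcon y (mem_support.1 hy))
    have hs : B.support = A.support :=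
      Finset.eq_of_subset_of_card_le hsub (by rw [hA.card_support, hB.card_support])
    have hxA : A x ≠ x := hcon x hx
    have hAx : A x = B x ∨ A x = B (B x) := by
      have : A x ∈ B.support := by rw [hs]; exact apply_mem_support.2 (mem_support.2 hxA)
      rw [(hB.support_eq_iff_mem_support).2 (mem_support.2 hx)] at this
      simp only [Finset.mem_insert, Finset.mem_singleton] at this
      tauto
    obtain ⟨g1, g2, g3⟩ := threeCycle_distinct hA hxA
    have hAAx : A (A x) = B x ∨ A (A x) = B (B x) := by
      have : A (A x) ∈ B.support := by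
        rw [hs]; exact apply_mem_support.2 (apply_mem_support.2 (mem_support.2 hxA))
      rw [(hB.support_eq_iff_mem_support).2 (mem_support.2 hx)] at this
      simp only [Finset.mem_insert, Finset.mem_singleton] at this
      exact this.resolve_left g2.symm
    rcases hAx with e | e
    · have e2 : A (A x) = B (B x) := hAAx.resolve_left (fun hh => g3 (by rw [hh, e]))
      exact hne (by rw [eq_cyc3 hA hxA, eq_cyc3 hB hx, e2, e])
    · have e2 : A (A x) = B x := hAAx.resolve_right (fun hh => g3 (by rw [hh, e]))
      have hxB : B⁻¹ x ≠ x := fun hh => hx (by conv_lhs => rw [← hh]; simp)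
      have i1 : B⁻¹ x = B (B x) := by
        rw [Perm.inv_eq_iff_eq, threeCycle_apply_three hB]
      have i2 : B⁻¹ (B⁻¹ x) = B x := by rw [i1]; simp
      exact hne' (by rw [eq_cyc3 hA hxA, eq_cyc3 hB.inv hxB, i2, i1, e2, e])
  have hu : A (B w) = B (B w) := agree_of_mul_mul_eq_one hB h hAw
  refine ⟨B w, ?_, hu, ?_⟩
  · rw [hu]; exact fun hh => hBw (B.injective hh)
  · rw [threeCycle_apply_three hB, hAw]

/-- Three three-cycles cannot pairwise share different edges of one of them. -/
theorem edge_unique {A B B' : Perm α} (hA : IsThreeCycle A) (hB : IsThreeCycle B)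
    (hB' : IsThreeCycle B') {u u' : α}
    (hu : A u ≠ u ∧ A u = B u ∧ A (B (B u)) = B (B u))
    (hu' : A u' ≠ u' ∧ A u' = B' u' ∧ A (B' (B' u')) = B' (B' u'))
    (h : B * B' * (B * B') = 1) (hnext : u' = A u) : False := by
  obtain ⟨hAu, hBu, hw⟩ := hu
  obtain ⟨hAu', hBu', hw'⟩ := hu'
  subst hnext
  -- A = (u v z), B = (u v w), B' = (v z w')
  obtain ⟨huv, huz, hvz⟩ := threeCycle_distinct hA hAu
  have hBu0 : B u ≠ u := hBu ▸ hAu
  obtain ⟨buv, buw, bvw⟩ := threeCycle_distinct hB hBu0
  have hwz : B (B u) ≠ A (A u) := by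
    intro hh
    rw [hh, threeCycle_apply_three hA] at hw
    exact huz hw
  have hzfix : B (A (A u)) = A (A u) := by
    rw [eq_cyc3 hB hBu0, cyc3_apply_other huz.symm (hBu ▸ hvz.symm) hwz.symm]
  have key := agree_of_mul_mul_eq_one (A := B) hB' h (w := A (A u)) hzfix
  -- `B w' = B' w' = v`
  rw [hBu', threeCycle_apply_three hB'] at key
  have h1 : B' (B' (A u)) = u := B.injective (by rw [key, hBu])
  rw [h1] at hw'
  exact hAu hw'

/-- The three-cycles through two given points generate the alternating group. -/
theorem closure_cyc3_pair {a b : α} (hab : a ≠ b) :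
    Subgroup.closure {g : Perm α | ∃ x, x ≠ a ∧ x ≠ b ∧ g = cyc3 a b x} = alternatingGroup α := by
  apply le_antisymm
  · rw [Subgroup.closure_le]
    rintro g ⟨x, hxa, hxb, rfl⟩
    exact cyc3_mem hab hxa.symm hxb.symm
  set K := Subgroup.closure {g : Perm α | ∃ x, x ≠ a ∧ x ≠ b ∧ g = cyc3 a b x} with hK
  have hT : ∀ x, x ≠ a → x ≠ b → cyc3 a b x ∈ K := fun x hxa hxb =>
    Subgroup.subset_closure ⟨x, hxa, hxb, rfl⟩
  have hA : ∀ p q, p ≠ a → q ≠ a → p ≠ q → cyc3 a p q ∈ K := by
    intro p q hpa hqa hpq
    by_cases hpb : p = b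
    · subst hpb; exact hT q hqa hpq.symm
    by_cases hqb : q = b
    · subst hqb
      have e : cyc3 a p q = (cyc3 a q p)⁻¹ := by
        rw [eq_comm, inv_eq_iff_mul_eq_one]
        ext y
        simp only [Perm.mul_apply, Perm.one_apply]
        by_cases ha : y = a
        · subst ha
          rw [cyc3_apply_left hpa.symm hqa.symm, cyc3_apply_right]
        by_cases hp : y = p
        · subst hp
          rw [cyc3_apply_mid hqa.symm hpq, cyc3_apply_mid hpa.symm hpq.symm]
        by_cases hq : y = q
        · subst hq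
          rw [cyc3_apply_right, cyc3_apply_left hqa.symm hpa.symm]
        rw [cyc3_apply_other ha hp hq, cyc3_apply_other ha hq hp]
      rw [e]
      exact inv_mem (hT p hpa hpb)
    have e : cyc3 a p q * cyc3 a b p = cyc3 a b q := by
      ext y
      simp only [Perm.mul_apply]
      by_cases ha : y = a
      · subst ha
        rw [cyc3_apply_left hab hpa.symm, cyc3_apply_other hab.symm (Ne.symm hpb) (Ne.symm hqb),
          cyc3_apply_left hab hqa.symm]
      by_cases hb : y = b
      · subst hb
        rw [cyc3_apply_mid hpa.symm (Ne.symm hpb), cyc3_apply_mid hqa.symm hpq,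
          cyc3_apply_mid hqa.symm (Ne.symm hqb)]
      by_cases hp : y = p
      · subst hp
        rw [cyc3_apply_right, cyc3_apply_left hpa.symm hqa.symm,
          cyc3_apply_other ha hb hpq]
      by_cases hq : y = q
      · subst hq
        rw [cyc3_apply_other ha hb hp, cyc3_apply_right, cyc3_apply_right]
      rw [cyc3_apply_other ha hb hp, cyc3_apply_other ha hp hq, cyc3_apply_other ha hb hq]
    have : cyc3 a p q = cyc3 a b q * (cyc3 a b p)⁻¹ := by rw [← e, mul_inv_cancel_right]
    rw [this]
    exact mul_mem (hT q hqa hqb) (inv_mem (hT p hpa hpb))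
  rw [← closure_three_cycles_eq_alternating, Subgroup.closure_le]
  intro g hg
  by_cases hga : g a = a
  · obtain ⟨p, hp⟩ : ∃ p, g p ≠ p := by
      by_contra hall
      push Not at hall
      exact hg.ne_one (Equiv.ext hall)
    obtain ⟨h1, h2, h3⟩ := threeCycle_distinct hg hp
    have hpa : p ≠ a := fun h => hp (h ▸ hga)
    have hqa : g p ≠ a := fun h => hpa (g.injective (h.trans hga.symm))
    have hra : g (g p) ≠ a := fun h => hqa (g.injective (h.trans hga.symm))
    have e : g = cyc3 a p (g p) * cyc3 a (g p) (g (g p)) := by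
      conv_lhs => rw [eq_cyc3 hg hp]
      ext y
      simp only [Perm.mul_apply]
      by_cases ha : y = a
      · subst ha
        rw [cyc3_apply_left hqa.symm hra.symm, cyc3_apply_right,
          cyc3_apply_other hpa.symm hqa.symm hra.symm]
      by_cases hy1 : y = p
      · subst hy1
        rw [cyc3_apply_other hpa h1 h2, cyc3_apply_mid hqa.symm h1, cyc3_apply_left h1 h2]
      by_cases hy2 : y = g p
      · subst hy2
        rw [cyc3_apply_mid hra.symm h3, cyc3_apply_other hra h2.symm h3.symm,
          cyc3_apply_mid h2 h3]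
      by_cases hy3 : y = g (g p)
      · subst hy3
        rw [cyc3_apply_right, cyc3_apply_right, cyc3_apply_left hpa.symm hqa.symm]
      rw [cyc3_apply_other ha hy2 hy3, cyc3_apply_other ha hy1 hy2,
        cyc3_apply_other hy1 hy2 hy3]
    rw [e]
    exact mul_mem (hA _ _ hpa hqa h1) (hA _ _ hqa hra h3)
  · obtain ⟨h1, h2, h3⟩ := threeCycle_distinct hg hga
    rw [eq_cyc3 hg hga]
    exact hA _ _ h1.symm h2.symm h3

section count

theorem count_arith {r j : ℕ} (hj : 1 ≤ j) (h : (r + 3 * j).factorial =
    r.factorial * 3 ^ j * (j + 1).factorial) : j = 1 ∧ r = 0 := by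
  have h1 : r.factorial * (3 * j).factorial ≤ (r + 3 * j).factorial := by
    have := Nat.le_of_dvd (Nat.factorial_pos _) (Nat.factorial_mul_factorial_dvd_factorial_add r (3 * j))
    exact this
  have hbig : ∀ i : ℕ, 2 ≤ i → 3 ^ i * (i + 1).factorial < (3 * i).factorial := by
    intro i hi
    induction i, hi using Nat.le_induction with
    | base => decide
    | succ i hi ih =>
      rw [show 3 * (i + 1) = 3 * i + 1 + 1 + 1 by ring, Nat.factorial_succ (3 * i + 1 + 1),
        Nat.factorial_succ (3 * i + 1), Nat.factorial_succ (3 * i), Nat.factorial_succ (i + 1),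
        pow_succ]
      have hle : 3 * (i + 1 + 1) ≤ (3 * i + 1 + 1 + 1) * ((3 * i + 1 + 1) * (3 * i + 1)) := by
        have h7 : 7 ≤ 3 * i + 1 := by omega
        nlinarith [Nat.mul_le_mul (le_refl (3 * i + 1 + 1 + 1)) (Nat.mul_le_mul
          (show 1 ≤ 3 * i + 1 + 1 by omega) (show 3 ≤ 3 * i + 1 by omega))]
      calc 3 ^ i * 3 * ((i + 1 + 1) * (i + 1).factorial)
          = 3 * (i + 1 + 1) * (3 ^ i * (i + 1).factorial) := by ring
        _ ≤ (3 * i + 1 + 1 + 1) * ((3 * i + 1 + 1) * (3 * i + 1)) * (3 ^ i * (i + 1).factorial) :=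
            Nat.mul_le_mul_right _ hle
        _ < (3 * i + 1 + 1 + 1) * ((3 * i + 1 + 1) * (3 * i + 1)) * (3 * i).factorial := by
            exact Nat.mul_lt_mul_of_pos_left ih (by positivity)
        _ = _ := by ring
  rcases Nat.lt_or_ge j 2 with hlt | hge
  · obtain rfl : j = 1 := by omega
    refine ⟨rfl, ?_⟩
    rcases r.eq_zero_or_pos with h0 | h0
    · exact h0
    exfalso
    norm_num [Nat.factorial] at h
    have hr := Nat.factorial_pos r
    nlinarith [Nat.mul_le_mul (show 4 ≤ r + 3 by omega)
      (Nat.mul_le_mul (show 3 ≤ r + 2 by omega) (show 2 ≤ r + 1 by omega))]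
  · exfalso
    have := hbig j hge
    rw [h, mul_assoc] at h1
    have := Nat.le_of_mul_le_mul_left h1 (Nat.factorial_pos r)
    omega

end count

/-- Automorphisms of the alternating group of degree other than six fix the set of three-cycles. -/
theorem isThreeCycle_map (h6 : Nat.card α ≠ 6) (φ : MulAut (alternatingGroup α))
    {c : alternatingGroup α} (hc : IsThreeCycle (c : Perm α)) :
    IsThreeCycle ((φ c : alternatingGroup α) : Perm α) := by
  rw [Nat.card_eq_fintype_card] at h6
  have hord : orderOf ((φ c : alternatingGroup α) : Perm α) = 3 := by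
    rw [Subgroup.orderOf_coe, MulEquiv.orderOf_eq, ← Subgroup.orderOf_coe, hc.orderOf]
  obtain ⟨j, hj⟩ := cycleType_prime_order (σ := ((φ c : alternatingGroup α) : Perm α))
    (hord ▸ Nat.prime_three)
  rw [hord] at hj
  rcases j.eq_zero_or_pos with rfl | hjpos
  · exact hj.trans (by simp)
  exfalso
  have hsum : 3 * (j + 1) ≤ Fintype.card α := by
    have := sum_cycleType_le ((φ c : alternatingGroup α) : Perm α)
    rw [hj, Multiset.sum_replicate, smul_eq_mul, mul_comm] at this
    exact this
  have h5 : 5 ≤ Nat.card α := by rw [Nat.card_eq_fintype_card]; omega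
  set m : Multiset ℕ := Multiset.replicate (j + 1) 3 with hm
  have hcount : 2 ≤ ((φ c : alternatingGroup α) : Perm α).cycleType.count 3 := by
    rw [hj, Multiset.count_replicate_self]; omega
  have hcard : ({g : alternatingGroup α | (g : Perm α).cycleType = {3}} : Finset _).card =
      ({g : alternatingGroup α | (g : Perm α).cycleType = m} : Finset _).card := by
    have key : ∀ g : alternatingGroup α, (g : Perm α).cycleType = {3} ↔
        ((φ g : alternatingGroup α) : Perm α).cycleType = m := by
      intro g
      rw [show m = ((φ c : alternatingGroup α) : Perm α).cycleType from hj.symm]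
      constructor
      · intro hg
        have := (MulEquiv.toMonoidHom φ).map_isConj (alternatingGroup.isThreeCycle_isConj h5 hc hg)
        exact (isConj_iff_cycleType_eq.1 (isConj_coe_of_isConj this)).symm
      · intro hg
        have h1 : IsConj (φ c) (φ g) :=
          (isConj_alt_iff_of_two_le_count hcount).2 (isConj_iff_cycleType_eq.2 hg.symm)
        have h2 : IsConj c g := by
          have := (MulEquiv.toMonoidHom φ.symm).map_isConj h1
          simpa using this
        exact (isConj_iff_cycleType_eq.1 (isConj_coe_of_isConj h2)).symm.trans hc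
    exact Finset.card_equiv φ.toEquiv (by intro g; simp [key g])
  obtain ⟨r, hr⟩ : ∃ r, Fintype.card α = r + 3 * j + 3 := ⟨Fintype.card α - 3 * j - 3, by omega⟩
  have hA := AlternatingGroup.card_of_cycleType_mul_eq α ({3} : Multiset ℕ)
  have hB := AlternatingGroup.card_of_cycleType_mul_eq α m
  rw [if_pos ⟨⟨by simp; omega, by simp⟩, by decide⟩] at hA
  rw [if_pos ⟨⟨by rw [hm, Multiset.sum_replicate, smul_eq_mul]; omega,
    by intro a ha; rw [Multiset.eq_of_mem_replicate ha]; omega⟩,
    by
      rw [hm, Multiset.sum_replicate, Multiset.card_replicate, smul_eq_mul]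
      exact ⟨2 * (j + 1), by ring⟩⟩, ← hA, hcard] at hB
  have hpos : 0 < ({g : alternatingGroup α | (g : Perm α).cycleType = m} : Finset _).card :=
    Finset.card_pos.2 ⟨φ c, by simp [hm, hj]⟩
  have hEq := Nat.eq_of_mul_eq_mul_left hpos hB
  simp only [hm, Multiset.sum_replicate, Multiset.prod_replicate, smul_eq_mul,
    Multiset.toFinset_replicate, Nat.succ_ne_zero, if_false, Finset.prod_singleton,
    Multiset.count_replicate_self, Multiset.sum_singleton, Multiset.prod_singleton,
    Multiset.toFinset_singleton, Multiset.count_singleton_self, Nat.factorial_one, mul_one] at hEq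
  rw [hr, show r + 3 * j + 3 - (j + 1) * 3 = r by omega, Nat.add_sub_cancel, pow_succ] at hEq
  have hEq' : (r + 3 * j).factorial = r.factorial * 3 ^ j * (j + 1).factorial := by
    apply Nat.eq_of_mul_eq_mul_right (show 0 < 3 by omega)
    rw [← hEq]; ring
  obtain ⟨rfl, rfl⟩ := count_arith hjpos hEq'
  omega

end Cfsg.Agent.Alt
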